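import Cfsg.Agent.CGM.Tower

/-!
The group `3·J₃` of `Def_Spor_J3` in the black-box model of packed `18 × 18` matrices over `ZMod 2`:
the blow-up of `F⁹` (`F` of order four) and the codes of the generating matrices.
-/

set_option autoImplicit false

namespace CL
namespace J3M

open Matrix Cfsg.Spor CL.CGM

/-- numbering of the index set -/
def ix (z : F9) : ℕ := 3 * z.1.val + z.2.val

theorem ix_lt : ∀ z, ix z < 9 := by decide
theorem ix_inj : ∀ z w, ix z = ix w → z = w := by decide
theorem ix_cases : ∀ j : Fin 18, ∃ z, (j : ℕ) = ix z ∨ (j : ℕ) = ix z + 9 := by decide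

/-- the two bits coding entry `(i, j)` -/
def bits (c i j : ℕ) : ZMod 2 × ZMod 2 := (ent (ZMod 2) 18 1 c i j, ent (ZMod 2) 18 1 c i (j + 9))

/-- the last nine rows are `ω` times the first nine rows -/
def Wf (c : ℕ) : Prop := ∀ z w : F9, bits c (ix z + 9) (ix w) =
  ((bits c (ix z) (ix w)).2, (bits c (ix z) (ix w)).1 + (bits c (ix z) (ix w)).2)

instance instDecWf (c : ℕ) : Decidable (Wf c) := by unfold Wf; infer_instance

/-- codes of the transposed matrices `A_Z` -/
def lA : List ℕ := [
  nat_lit 0x800010000200004000080001000020000400008000100002000040000800010000200004000080001,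
  nat_lit 0x4010080200000020080401000000100402008020100400000040100802000000200804010000001,
  nat_lit 0x804000080200004020000401000020100002008020000402000040100002010000200800010080001,
  nat_lit 0x4000080001004020080401008020000400008020100402008040100002000040000004000080001,
  nat_lit 0x804010000001004000000401008000100402008020000002008040000802010040000804010000001,
  nat_lit 0x800010080001000020080001008020100002008000100400008040100800010040000800010080001,
  nat_lit 0x804010080201000020000400008020000400008020000400008000100802010040200004000080001,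
  nat_lit 0x800000080201004020080000008000100402008000100402008000100000010040200804010000001,
  nat_lit 0x4010000201004000080400008020100002008020100002008000000802000040200800010080001]
/-- codes of the transposed matrices `E_Z` -/
def lE : List ℕ := [
  nat_lit 0x4000080201000020000401008020100402008020100402008000100802010040000800010000001,
  nat_lit 0x4010080001000020080400008020100400008060100400008040100802000040200800000080200,
  nat_lit 0x804000080001004020000400008020000402008060000402008040100002010040200004010000200,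
  nat_lit 0x4000080201004020080401000000100002008060100402008000100002000000200804010080200,
  nat_lit 0x4010080001004020080001008000100402000060100400008040100000010040000804010000201,
  nat_lit 0x804000080001004000080401008020100002000060000402008040000802000040000800010080201,
  nat_lit 0x804010080200000020000401008000100002008060000400000040100802010040000804010080200,
  nat_lit 0x804010000201000020080400008000100402000060000002008000100802000040200804010000201,
  nat_lit 0x800010080201004020000400008020100002000040100400008000100002010040200800010080201]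
/-- codes of the transposed matrices `D_Z` -/
def lD : List ℕ := [
  nat_lit 0x800010000200004000080001000020000400008000100002000040000800010000200004000080001,
  nat_lit 0x200020100400001000000802000008000800010000040800000080000204020000400001000100002,
  nat_lit 0x2008000800002010040004000010000200020010080001000100080000008000800002000040004,
  nat_lit 0x20000400008000100402008000100002000040000004000080001804010000001000020000400008,
  nat_lit 0x8000800000088000800010000040204000080000001000100402001000100002001000000800010,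
  nat_lit 0x10000200020110000200020000080000008100000002000040800002000040004000010040200020,
  nat_lit 0x100800010040000800010000200800010000200004000080400008000100002000040100002000040,
  nat_lit 0x40004000080000200020000402001020000400000008000800010000040004010008040004000080,
  nat_lit 0x80001000100000400008000004400008040800000010000200020000080001020100080200000100]
/-- codes of the transposed matrices `B_Z` -/
def lB : List ℕ := [
  nat_lit 0x8000200008000200008000200008000200008000001000040001000040001000040001000040001,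
  nat_lit 0x100020000020002000400000400040008000008000020004000004000400080000080008001000001,
  nat_lit 0x400002000010020000100000800200001000008000080000400002004000020000100040000200001,
  nat_lit 0x800010000200004000080001000020000400008000100002000040000800010000200004000080001,
  nat_lit 0x10001000800008000020002000100010000008000002000200100001000004000400020002000001,
  nat_lit 0x40000800400000400200004000800002000008000008000100080000080040000800100000400001,
  nat_lit 0x80004000040010000800008000010000800008000010000800008002000100001000002000100001,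
  nat_lit 0x200000400100000800040010000080020000008000040000080020000100008002000010004000001,
  nat_lit 0x20008000080001000010020000400004000008000004001000010000200002004000080000800001]
/-- codes of the transposed matrices `C_Z` -/
def lC : List ℕ := [
  nat_lit 0x8000200008000200008000200008000200008000001000040001000040001000040001000040001,
  nat_lit 0xd00026000250032000580009800070008c000080001a0004c0004a0064000b000130000e001180001,
  nat_lit 0x580032000260026000d00009400230001c000080000b000640004c004c001a0001280046000380001,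
  nat_lit 0xc80034000070016000980008c0026000940000800019000680000e002c0013000118004c001280001,
  nat_lit 0x7000940058000980023003400098003200000800000e0012800b0001300046006800130006400001,
  nat_lit 0x260001c00980008c00250032000d0001600000800004c00038013000118004a0064001a0002c00001,
  nat_lit 0x980016000230034000c80001c00250009800008000130002c0004600680019000038004a001300001,
  nat_lit 0x250008c00c80001c0026002600058003400000800004a00118019000038004c004c000b0006800001,
  nat_lit 0x230009800d00009400070016000c800260000080000460013001a000128000e002c00190004c00001]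
/-- code of the scalar `ω` -/
def cW : ℕ := nat_lit 0x804010080201004020080401008020100402008060000400008000100002000040000800010000200


/-- bits of `ω ^ n` -/
def pw3 (n : ZMod 3) : ZMod 2 × ZMod 2 := if n = 0 then (1, 0) else if n = 1 then (0, 1) else (1, 1)
/-- bits of the entries of `A_Z` -/
def eA (Z w z : F9) : ZMod 2 × ZMod 2 := if w = z then pw3 (Z.1 * w.1 + Z.2 * w.2) else (0, 0)
/-- bits of the entries of `E_Z` -/
def eE (Z w z : F9) : ZMod 2 × ZMod 2 :=
  if w = z then pw3 ((Z.1 - w.1) ^ 2 + (Z.2 - w.2) ^ 2) else (0, 0)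
/-- bits of the entries of `D_Z` -/
def eD (Z w z : F9) : ZMod 2 × ZMod 2 :=
  if w = z + Z then (if z = 0 then (1, 0) else if F9.div Z z = F9.I - F9.one then (0, 1)
    else if F9.div Z z = -F9.I - F9.one then (1, 1) else (1, 0)) else (0, 0)
/-- bits of the entries of `B_Z` -/
def eB (Z w z : F9) : ZMod 2 × ZMod 2 := if w = F9.mul Z z then (1, 0) else (0, 0)
/-- bits of the entries of `C_Z` -/
def eC (Z w z : F9) : ZMod 2 × ZMod 2 :=
  if z = 0 then (if w = 0 then (1, 0) else (0, 0))
  else if w = -F9.div Z z ∨ w = F9.mul F9.I (F9.div Z z) ∨ w = -F9.mul F9.I (F9.div Z z) then (1, 0)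
  else (0, 0)

theorem chkA : ∀ Z : F9, Wf (nth lA (ix Z)) ∧
    ∀ z w, bits (nth lA (ix Z)) (ix z) (ix w) = eA Z w z := by decide +kernel
theorem chkE : ∀ Z : F9, Wf (nth lE (ix Z)) ∧
    ∀ z w, bits (nth lE (ix Z)) (ix z) (ix w) = eE Z w z := by decide +kernel
theorem chkD : ∀ Z : F9, Wf (nth lD (ix Z)) ∧
    ∀ z w, bits (nth lD (ix Z)) (ix z) (ix w) = eD Z w z := by decide +kernel
theorem chkB : ∀ Z : F9, Wf (nth lB (ix Z)) ∧
    ∀ z w, bits (nth lB (ix Z)) (ix z) (ix w) = eB Z w z := by decide +kernel
theorem chkC : ∀ Z : F9, Wf (nth lC (ix Z)) ∧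
    ∀ z w, bits (nth lC (ix Z)) (ix z) (ix w) = eC Z w z := by decide +kernel
theorem chkW : Wf cW ∧
    ∀ z w, bits cW (ix z) (ix w) = if z = w then (0, 1) else (0, 0) := by decide +kernel

theorem charP_of_card {F : Type*} [Field F] [Fintype F] (hF : Fintype.card F = 4) : CharP F 2 := by
  have h := FiniteField.cast_card_eq_zero F
  rw [hF] at h
  have h2 : (2 : F) * 2 = 0 := by rw [← h]; norm_num
  exact CharTwo.of_one_ne_zero_of_two_eq_zero one_ne_zero (mul_self_eq_zero.1 h2)

variable (F : Type*) [Field F] [CharP F 2] (ω : F)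

/-- the prime field -/
def phi : ZMod 2 →+* F := ZMod.castHom (dvd_refl 2) F

/-- rows: the basis vectors and their multiples by `ω` -/
def U : Matrix (Fin 18) F9 F :=
  Matrix.of fun i w => if (i : ℕ) = ix w then 1 else if (i : ℕ) = ix w + 9 then ω else 0

/-- the field element `a + b ω` -/
def d4 (p : ZMod 2 × ZMod 2) : F := phi F p.1 + phi F p.2 * ω

/-- the matrix read off the first nine rows -/
def mat4 (c : ℕ) : Matrix F9 F9 F := Matrix.of fun z w => d4 F ω (bits c (ix z) (ix w))

/-- the representation on row vectors -/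
def rho : threeJ3 F ω →* Matrix F9 F9 F := (contra F9 F).comp (threeJ3 F ω).subtype

/-- the code `c` represents `g` -/
abbrev R (c : ℕ) (g : threeJ3 F ω) : Prop := RB (phi F) (U F ω) c (rho F ω g)

omit [CharP F 2] in
theorem rho_injective : Function.Injective (rho F ω) :=
  contra_injective.comp Subtype.val_injective

theorem d4_00 : d4 F ω (0, 0) = 0 := by simp [d4]
theorem d4_10 : d4 F ω (1, 0) = 1 := by simp [d4]
theorem d4_01 : d4 F ω (0, 1) = ω := by simp [d4]

variable {F ω}

omit [CharP F 2] in
theorem vecMul_U (x : Fin 18 → F) (w : F9) :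
    (x ᵥ* U F ω) w = x ⟨ix w, by have := ix_lt w; omega⟩ + x ⟨ix w + 9, by have := ix_lt w; omega⟩ * ω := by
  rw [vecMul, dotProduct, Fintype.sum_eq_add (⟨ix w, by have := ix_lt w; omega⟩ : Fin 18)
    ⟨ix w + 9, by have := ix_lt w; omega⟩ (by simp)]
  · simp [U]
  · rintro c ⟨h1, h2⟩
    have h3 : (c : ℕ) ≠ ix w := fun h => h1 (Fin.ext h)
    have h4 : (c : ℕ) ≠ ix w + 9 := fun h => h2 (Fin.ext h)
    simp [U, h3, h4]

theorem vecOf_apply (x : ℕ) (w : F9) : vecOf (phi F) (U F ω) x w = d4 F ω (bits x 0 (ix w)) :=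
  vecMul_U _ w

variable (hω : ω ^ 2 + ω + 1 = 0)
include hω

theorem sq_eq : ω ^ 2 = 1 + ω := by
  have h2 : (2 : F) = 0 := CharTwo.two_eq_zero
  linear_combination hω - (ω + 1) * h2

theorem d4_11 : d4 F ω (1, 1) = ω ^ 2 := by simp [d4, sq_eq hω]

omit [CharP F 2] in
theorem cube_eq : ω ^ 3 = 1 := by linear_combination (ω - 1) * hω

theorem d4_eq_zero {p : ZMod 2 × ZMod 2} (h : d4 F ω p = 0) : p = 0 := by
  have h0 : ω ≠ 0 := by rintro rfl; simp at hω
  have : ∀ q : ZMod 2 × ZMod 2, q = 0 ∨ q = (1, 0) ∨ q = (0, 1) ∨ q = (1, 1) := by decide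
  rcases this p with rfl | rfl | rfl | rfl
  · rfl
  · rw [d4_10] at h; exact absurd h one_ne_zero
  · rw [d4_01] at h; exact absurd h h0
  · rw [d4_11 hω] at h; exact absurd h (pow_ne_zero 2 h0)

theorem mul_d4 (p : ZMod 2 × ZMod 2) : ω * d4 F ω p = d4 F ω (p.2, p.1 + p.2) := by
  simp only [d4, map_add]
  linear_combination (phi F p.2) * sq_eq hω

theorem d4_sq (p : ZMod 2 × ZMod 2) : d4 F ω p ^ 2 = d4 F ω (p.1 + p.2, p.2) := by
  have h2 : (2 : F) = 0 := CharTwo.two_eq_zero
  have e : ∀ a : ZMod 2, phi F a ^ 2 = phi F a := fun a => by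
    rw [← map_pow, (by decide : ∀ a : ZMod 2, a ^ 2 = a)]
  simp only [d4, map_add]
  linear_combination e p.1 + ω ^ 2 * e p.2 + phi F p.2 * sq_eq hω + phi F p.1 * phi F p.2 * ω * h2

theorem blow : Blow (phi F) (U F ω) where
  pos := by norm_num
  linv := by
    refine ⟨Matrix.of fun z i => if (i : ℕ) = ix z then 1 else 0, ?_⟩
    ext z w
    have h1 : ix w + 9 ≠ ix z := by have := ix_lt z; omega
    refine (vecMul_U (fun i : Fin 18 => if (i : ℕ) = ix z then (1 : F) else 0) w).trans ?_
    by_cases h : z = w
    · subst h; simp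
    · have h2 : ix w ≠ ix z := fun e => h (ix_inj _ _ e).symm
      simp [h, h1, h2]
  inj x hx := by
    ext j
    obtain ⟨z, hz⟩ := ix_cases j
    have h1 := congrFun hx z
    rw [vecMul_U] at h1
    have h2 := d4_eq_zero hω (p := (x ⟨ix z, by have := ix_lt z; omega⟩,
      x ⟨ix z + 9, by have := ix_lt z; omega⟩)) h1
    rcases hz with hz | hz
    · rw [show j = ⟨ix z, by have := ix_lt z; omega⟩ from Fin.ext hz]; exact congrArg Prod.fst h2
    · rw [show j = ⟨ix z + 9, by have := ix_lt z; omega⟩ from Fin.ext hz]; exact congrArg Prod.snd h2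

theorem isRep : IsRep (mulSq2 18) (idCode 18 1) (R F ω) :=
  (blow hω).isRepHom _ (rho_injective F ω)

theorem RB_mat4 {c : ℕ} (hc : Wf c) : RB (phi F) (U F ω) c (mat4 F ω c) := by
  ext i w
  have e1 : ((toMat (ZMod 2) 18 18 1 c).map (phi F) * U F ω) i w = d4 F ω (bits c i (ix w)) :=
    vecMul_U (fun j : Fin 18 => phi F (ent (ZMod 2) 18 1 c i j)) w
  obtain ⟨z, hz⟩ := ix_cases i
  have e2 : (U F ω * mat4 F ω c) i w = U F ω i z * mat4 F ω c z w := by
    rw [mul_apply, Finset.sum_eq_single z _ (by simp)]
    intro y _ hy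
    have h1 : ix y ≠ ix z := fun e => hy (ix_inj _ _ e)
    have := ix_lt y
    have := ix_lt z
    have h3 : (i : ℕ) ≠ ix y := by omega
    have h4 : (i : ℕ) ≠ ix y + 9 := by omega
    simp [U, h3, h4]
  rw [e1, e2]
  rcases hz with hz | hz
  · simp [U, hz, mat4]
  · rw [hz, hc, ← mul_d4 hω]
    simp [U, hz, mat4]

theorem RB_of_bits {c : ℕ} {e : F9 → F9 → ZMod 2 × ZMod 2}
    (h : Wf c ∧ ∀ z w, bits c (ix z) (ix w) = e w z) {M : Matrix F9 F9 F}
    (hM : ∀ w z, M w z = d4 F ω (e w z)) : RB (phi F) (U F ω) c Mᵀ := by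
  have : Mᵀ = mat4 F ω c := by
    ext z w; rw [transpose_apply, hM, mat4, of_apply, h.2]
  rw [this]; exact RB_mat4 hω h.1

theorem omegaPow_eq (n : ZMod 3) : omegaPow F ω n = d4 F ω (pw3 n) := by
  have : ∀ n : ZMod 3, n = 0 ∨ n = 1 ∨ n = 2 := by decide
  rcases this n with rfl | rfl | rfl
  · exact (pow_zero ω).trans (d4_10 F ω).symm
  · exact (pow_one ω).trans (d4_01 F ω).symm
  · exact (d4_11 hω).symm

theorem RB_A (Z : F9) : RB (phi F) (U F ω) (nth lA (ix Z)) (j3A F ω Z)ᵀ :=
  RB_of_bits hω (chkA Z) fun w z => by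
    simp only [j3A, eA, diagonal_apply, apply_ite (d4 F ω), d4_00, omegaPow_eq hω]

theorem RB_E (Z : F9) : RB (phi F) (U F ω) (nth lE (ix Z)) (j3E F ω Z)ᵀ :=
  RB_of_bits hω (chkE Z) fun w z => by
    simp only [j3E, eE, diagonal_apply, apply_ite (d4 F ω), d4_00, omegaPow_eq hω]

theorem RB_D (Z : F9) : RB (phi F) (U F ω) (nth lD (ix Z)) (j3D F ω Z)ᵀ :=
  RB_of_bits hω (chkD Z) fun w z => by
    simp only [j3D, j3Lam, eD, of_apply, apply_ite (d4 F ω), d4_00, d4_10, d4_01, d4_11 hω]

theorem RB_B (Z : F9) : RB (phi F) (U F ω) (nth lB (ix Z)) (j3B F Z)ᵀ :=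
  RB_of_bits hω (chkB Z) fun w z => by
    simp only [j3B, eB, of_apply, apply_ite (d4 F ω), d4_00, d4_10]

theorem RB_C (Z : F9) : RB (phi F) (U F ω) (nth lC (ix Z)) (j3C F Z)ᵀ :=
  RB_of_bits hω (chkC Z) fun w z => by
    simp only [j3C, eC, of_apply, apply_ite (d4 F ω), d4_00, d4_10]

theorem RB_W : RB (phi F) (U F ω) cW (ω • (1 : Matrix F9 F9 F)) := by
  have : ω • (1 : Matrix F9 F9 F) = mat4 F ω cW := by
    ext z w
    rw [mat4, of_apply, chkW.2, apply_ite (d4 F ω), d4_00, d4_01]
    simp [one_apply]
  rw [this]; exact RB_mat4 hω chkW.1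

theorem exists_R {M : Matrix F9 F9 F} (hM : M ∈ j3Gens F ω) {c : ℕ}
    (hc : RB (phi F) (U F ω) c Mᵀ) (k : ℕ)
    (e : Nat.beq (powC (mulSq2 18) (idCode 18 1) c (k + 1)) (idCode 18 1) = true) :
    ∃ g, R F ω c g := by
  have h1 := (blow hω).isRep.eq_one ((blow hω).isRep.powC hc (k + 1)) e
  rw [← transpose_pow, transpose_eq_one] at h1
  let u : GL F9 F := Units.ofPowEqOne M (k + 1) h1 (by omega)
  refine ⟨(⟨u, Subgroup.subset_closure hM⟩ : threeJ3 F ω)⁻¹, ?_⟩
  show RB _ _ c (contra F9 F u⁻¹)
  rw [contra_inv]; exact hc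

theorem exists_E1 : ∃ g, R F ω (nth lE 1) g :=
  exists_R hω (Or.inl (Or.inl (Or.inl (Or.inr ⟨(0, 1), rfl⟩)))) (RB_E hω (0, 1)) 2
    (by decide +kernel)

theorem exists_B4 : ∃ g, R F ω (nth lB 4) g :=
  exists_R hω (Or.inl (Or.inr ⟨(1, 1), by decide, rfl⟩)) (RB_B hω (1, 1)) 7 (by decide +kernel)

theorem exists_C3 : ∃ g, R F ω (nth lC 3) g :=
  exists_R hω (Or.inr ⟨(1, 0), by decide, rfl⟩) (RB_C hω (1, 0)) 1 (by decide +kernel)

theorem exists_D3 : ∃ g, R F ω (nth lD 3) g :=
  exists_R hω (Or.inl (Or.inl (Or.inr ⟨(1, 0), rfl⟩))) (RB_D hω (1, 0)) 8 (by decide +kernel)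

/-- a subgroup containing the elements coded by the five lists is everything -/
theorem eq_top_of_codes (K : Subgroup (threeJ3 F ω))
    (hA : ∀ i < 9, InG (R F ω) K (nth lA i)) (hE : ∀ i < 9, InG (R F ω) K (nth lE i))
    (hD : ∀ i < 9, InG (R F ω) K (nth lD i)) (hB : ∀ i < 9, i ≠ 0 → InG (R F ω) K (nth lB i))
    (hC : ∀ i < 9, i ≠ 0 → InG (R F ω) K (nth lC i)) : K = ⊤ := by
  have h0 : ∀ Z : F9, Z ≠ 0 → ix Z ≠ 0 := by decide
  have key : threeJ3 F ω ≤ K.map (threeJ3 F ω).subtype := by
    refine (Subgroup.closure_le _).2 fun u hu => ?_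
    have h1 : ∀ c, InG (R F ω) K c → RB (phi F) (U F ω) c (u : Matrix F9 F9 F)ᵀ →
        u ∈ K.map (threeJ3 F ω).subtype := by
      intro c h1 h2
      refine ⟨⟨u, Subgroup.subset_closure hu⟩, K.inv_mem_iff.1 (h1.mem (isRep hω) ?_), rfl⟩
      show RB _ _ c (contra F9 F u⁻¹)
      rw [contra_inv]; exact h2
    rcases hu with (((⟨Z, hZ⟩ | ⟨Z, hZ⟩) | ⟨Z, hZ⟩) | ⟨Z, hZ0, hZ⟩) | ⟨Z, hZ0, hZ⟩
    · exact h1 _ (hA _ (ix_lt Z)) (hZ ▸ RB_A hω Z)
    · exact h1 _ (hE _ (ix_lt Z)) (hZ ▸ RB_E hω Z)
    · exact h1 _ (hD _ (ix_lt Z)) (hZ ▸ RB_D hω Z)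
    · exact h1 _ (hB _ (ix_lt Z) (h0 Z hZ0)) (hZ ▸ RB_B hω Z)
    · exact h1 _ (hC _ (ix_lt Z) (h0 Z hZ0)) (hZ ▸ RB_C hω Z)
  rw [eq_top_iff]
  intro g _
  obtain ⟨y, hy, e⟩ := key g.2
  rwa [← Subtype.ext e]

end J3M
end CL
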