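import Cfsg.Agent.J3M.DataC

/-!
Kernel checks of the top level, part 1.
-/

set_option autoImplicit false

namespace CL
namespace J3M

open CL.CGM

theorem cov0_0 : allB (L0.checkCov (mulSq2 18) hel) (L0.N * L0.ns) 0 61 = true := by
  decide +kernel

theorem cov0_1 : allB (L0.checkCov (mulSq2 18) hel) (L0.N * L0.ns) 61 61 = true := by
  decide +kernel

theorem cov0_2 : allB (L0.checkCov (mulSq2 18) hel) (L0.N * L0.ns) 122 61 = true := by
  decide +kernel

theorem cov0_3 : allB (L0.checkCov (mulSq2 18) hel) (L0.N * L0.ns) 183 61 = true := by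
  decide +kernel

theorem cov0_4 : allB (L0.checkCov (mulSq2 18) hel) (L0.N * L0.ns) 244 61 = true := by
  decide +kernel

theorem cov0_5 : allB (L0.checkCov (mulSq2 18) hel) (L0.N * L0.ns) 305 61 = true := by
  decide +kernel

end J3M
end CL
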