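import Cfsg.Agent.J3M.DataC

/-!
Kernel checks of the top level, part 2.
-/

set_option autoImplicit false

namespace CL
namespace J3M

open CL.CGM

theorem cov0_6 : allB (L0.checkCov (mulSq2 18) hel) (L0.N * L0.ns) 366 61 = true := by
  decide +kernel

theorem cov0_7 : allB (L0.checkCov (mulSq2 18) hel) (L0.N * L0.ns) 427 61 = true := by
  decide +kernel

theorem cov0_8 : allB (L0.checkCov (mulSq2 18) hel) (L0.N * L0.ns) 488 61 = true := by
  decide +kernel

theorem cov0_9 : allB (L0.checkCov (mulSq2 18) hel) (L0.N * L0.ns) 549 61 = true := by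
  decide +kernel

theorem cov0_10 : allB (L0.checkCov (mulSq2 18) hel) (L0.N * L0.ns) 610 61 = true := by
  decide +kernel

theorem cov0_11 : allB (L0.checkCov (mulSq2 18) hel) (L0.N * L0.ns) 671 61 = true := by
  decide +kernel

end J3M
end CL
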