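import Cfsg.Agent.J3M.DataC

/-!
Kernel checks of the top level, part 3.
-/

set_option autoImplicit false

namespace CL
namespace J3M

open CL.CGM

theorem cov0_12 : allB (L0.checkCov (mulSq2 18) hel) (L0.N * L0.ns) 732 61 = true := by
  decide +kernel

theorem cov0_13 : allB (L0.checkCov (mulSq2 18) hel) (L0.N * L0.ns) 793 61 = true := by
  decide +kernel

theorem cov0_14 : allB (L0.checkCov (mulSq2 18) hel) (L0.N * L0.ns) 854 61 = true := by
  decide +kernel

theorem cov0_15 : allB (L0.checkCov (mulSq2 18) hel) (L0.N * L0.ns) 915 61 = true := by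
  decide +kernel

theorem cov0_16 : allB (L0.checkCov (mulSq2 18) hel) (L0.N * L0.ns) 976 61 = true := by
  decide +kernel

theorem cov0_17 : allB (L0.checkCov (mulSq2 18) hel) (L0.N * L0.ns) 1037 61 = true := by
  decide +kernel

end J3M
end CL
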