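import Cfsg.Agent.J3M.DataC

/-!
Kernel checks of the top level: tree, keys, maximality words.
-/

set_option autoImplicit false

namespace CL
namespace J3M

open CL.CGM

theorem tree0_0 : allB (L0.checkTree (mulSq2 18) (idCode 18 1)) L0.N 0 91 = true := by
  decide +kernel

theorem key0_0 : allB (L0.checkKey key0 s0) L0.N 0 91 = true := by
  decide +kernel

theorem max0_0 : allB (L0.checkMax (mulSq2 18) hel 2 rw0) L0.N 0 91 = true := by
  decide +kernel

theorem tree0_1 : allB (L0.checkTree (mulSq2 18) (idCode 18 1)) L0.N 91 91 = true := by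
  decide +kernel

theorem key0_1 : allB (L0.checkKey key0 s0) L0.N 91 91 = true := by
  decide +kernel

theorem max0_1 : allB (L0.checkMax (mulSq2 18) hel 2 rw0) L0.N 91 91 = true := by
  decide +kernel

theorem tree0_2 : allB (L0.checkTree (mulSq2 18) (idCode 18 1)) L0.N 182 91 = true := by
  decide +kernel

theorem key0_2 : allB (L0.checkKey key0 s0) L0.N 182 91 = true := by
  decide +kernel

theorem max0_2 : allB (L0.checkMax (mulSq2 18) hel 2 rw0) L0.N 182 91 = true := by
  decide +kernel

theorem tree0_3 : allB (L0.checkTree (mulSq2 18) (idCode 18 1)) L0.N 273 91 = true := by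
  decide +kernel

theorem key0_3 : allB (L0.checkKey key0 s0) L0.N 273 91 = true := by
  decide +kernel

theorem max0_3 : allB (L0.checkMax (mulSq2 18) hel 2 rw0) L0.N 273 91 = true := by
  decide +kernel

theorem tree0_all : ∀ j < L0.N, L0.checkTree (mulSq2 18) (idCode 18 1) j = true :=
  (((((AllUpTo.zero _ _).add tree0_0).add tree0_1).add tree0_2).add tree0_3).all (by decide)

theorem key0_all : ∀ j < L0.N, L0.checkKey key0 s0 j = true :=
  (((((AllUpTo.zero _ _).add key0_0).add key0_1).add key0_2).add key0_3).all (by decide)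

theorem max0_all : ∀ j < L0.N, L0.checkMax (mulSq2 18) hel 2 rw0 j = true :=
  (((((AllUpTo.zero _ _).add max0_0).add max0_1).add max0_2).add max0_3).all (by decide)

end J3M
end CL
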