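import Cfsg.Agent.J3M.Chk1
import Cfsg.Agent.J3M.Chk2
import Cfsg.Agent.J3M.Chk3
import Cfsg.Agent.J3M.Chk4

/-!
Order, centre and normal subgroups of `3·J₃`; the orbit of the line of `e₀`.
-/

set_option autoImplicit false

namespace CL
namespace J3M

open Matrix Cfsg.Spor CL.CGM

theorem ok0 : L0.Ok (mulSq2 18) (idCode 18 1) hel :=
  ⟨by decide, by decide, tree0_all,
    (((((((((((((((((((AllUpTo.zero _ _).add cov0_0).add cov0_1).add cov0_2).add cov0_3).add
      cov0_4).add cov0_5).add cov0_6).add cov0_7).add cov0_8).add cov0_9).add cov0_10).add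
      cov0_11).add cov0_12).add cov0_13).add cov0_14).add cov0_15).add cov0_16).add
      cov0_17).all (by decide)⟩

theorem idxA : ∀ i < 9, Nat.beq (kel (nth [0, 131280120, 137652264, 131861520, 9883800, 72768024,
    60698160, 51744600, 58116744] i)) (nth lA i) = true := allN_spec (by decide +kernel)
theorem idxE : ∀ i < 9, Nat.beq (kel (nth [17976888, 23256, 131512680, 76814568, 91512360,
    33000264, 81000648, 35000280, 118814904] i)) (nth lE i) = true := allN_spec (by decide +kernel)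
theorem idxD : ∀ i < 9, Nat.beq (kel (nth [0, 146047741, 126303402, 1, 42767862, 48046933,
    73326248, 54302836, 80465802] i)) (nth lD i) = true := allN_spec (by decide +kernel)
theorem idxB : ∀ i < 8, Nat.beq (kel (nth [147838392, 49465512, 0, 9395424, 12604752, 92093760,
    104698512, 78465744] i)) (nth lB (i + 1)) = true := allN_spec (by decide +kernel)
theorem idxC : ∀ i < 8, Nat.beq (kel (nth [9697752, 78768072, 104652000, 147536064, 92140272,
    12558240, 46512, 49163184] i)) (nth lC (i + 1)) = true := allN_spec (by decide +kernel)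

theorem chk_lines : ∀ z : F9, key0 (L0.T (nth [0, 61, 66, 1, 78, 37, 80, 76, 42] (ix z))) =
    lkey 18 cW (2 ^ ix z) ∧ nth [0, 61, 66, 1, 78, 37, 80, 76, 42] (ix z) < 23256 ∧
    bits (rowC 18 (L0.T 5310) 0) 0 (ix z) ≠ 0 ∧
    ∀ w : F9, bits (2 ^ ix z) 0 (ix w) = if w = z then (1, 0) else (0, 0) := by decide +kernel

/-- the code of `x ^ 19` is the identity -/
noncomputable def is19 (c : ℕ) : Bool :=
  Nat.beq (powC (mulSq2 18) (idCode 18 1) c 19) (idCode 18 1)

theorem chk19 : ∀ i < 3, band (is19 (kel (nth [124989629, 121746212, 97784240] i)))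
    (is19 (mulSq2 18 (L0.gs i) (kel (nth [124989629, 121746212, 97784240] i)))) = true :=
  allN_spec (by decide +kernel)

variable {F : Type*} [Field F] {ω : F}

/-- the first basis vector -/
abbrev e0 (F : Type*) [Field F] : F9 → F := Pi.single (0 : F9) (1 : F)

theorem cases_of_ne_zero [Fintype F] (hF : Fintype.card F = 4) (hω : ω ^ 2 + ω + 1 = 0) (c : F)
    (hc : c ≠ 0) : c = 1 ∨ c = ω ∨ c = ω ^ 2 := by
  have h1 := FiniteField.pow_card_sub_one_eq_one c hc
  rw [hF] at h1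
  have h2 : (c - 1) * ((c - ω) * (c - ω ^ 2)) = 0 := by
    linear_combination h1 + (c - 1) * (ω - 1 - c) * hω
  simpa only [mul_eq_zero, sub_eq_zero] using h2

variable [CharP F 2]

theorem vecOf_pow (z : F9) : vecOf (phi F) (U F ω) (2 ^ ix z) = Pi.single z 1 := by
  ext w
  rw [vecOf_apply, (chk_lines z).2.2.2, apply_ite (d4 F ω), d4_00, d4_10, Pi.single_apply]

theorem vecOf_row0 {c : ℕ} {M : Matrix F9 F9 F} (hc : RB (phi F) (U F ω) c M) :
    vecOf (phi F) (U F ω) (rowC 18 c 0) = e0 F ᵥ* M := by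
  have h1 : U F ω 0 = e0 F := by
    ext w
    have h2 : ∀ w : F9, (0 = ix w ↔ w = 0) := by decide
    simp [U, Pi.single_apply, h2]
  rw [← h1]; exact vecOf_rowC hc 0

variable (F ω) in
/-- the stabiliser of the line of `e₀`, given by generators -/
noncomputable def H : Subgroup (threeJ3 F ω) := genC (R F ω) (fn2 cH1 cH2) 2

variable (F ω) in
/-- the scalar `ω` -/
noncomputable def w : threeJ3 F ω := el (R F ω) cW

variable (hω : ω ^ 2 + ω + 1 = 0)
include hω

theorem ex_H1 : ∃ g, R F ω cH1 g := by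
  rw [show cH1 = nth lE 1 by decide +kernel]; exact exists_E1 hω

theorem ex_H2 : ∃ g, R F ω cH2 g := by
  obtain ⟨a, ha⟩ := exists_B4 hω
  obtain ⟨b, hb⟩ := exists_C3 hω
  rw [show cH2 = mulSq2 18 (nth lB 4) (nth lC 3) by decide +kernel]
  exact ⟨_, (isRep hω).mul ha hb⟩

theorem ex_S : ∃ g, R F ω cS g := by
  rw [show cS = nth lD 3 by decide +kernel]; exact exists_D3 hω

theorem ex_gs (i : ℕ) : ∃ g, R F ω (L0.gs i) g := (inG_genC3 (ex_H1 hω) (ex_H2 hω) (ex_S hω) i).ex

theorem smul_of_key0 {a b : ℕ} {g g' : threeJ3 F ω} (ha : R F ω a g) (hb : R F ω b g')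
    (e : key0 a = key0 b) : ∃ c : F, c ≠ 0 ∧ e0 F ᵥ* rho F ω g = c • (e0 F ᵥ* rho F ω g') := by
  rw [← vecOf_row0 ha, ← vecOf_row0 hb]
  exact (blow hω).smul_of_lkey_eq (RB_W hω) (cube_eq hω) e

theorem H_le_lstab : H F ω ≤ lstab (rho F ω) (e0 F) := by
  have h1 : ∀ i < 2, Nat.beq (key0 (fn2 cH1 cH2 i)) (key0 (idCode 18 1)) = true :=
    allN_spec (by decide +kernel)
  refine gen_le.2 fun i hi => ?_
  obtain ⟨c, hc, h2⟩ := smul_of_key0 hω (inG_genC2 (ex_H1 hω) (ex_H2 hω) i).R_el (isRep hω).one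
    (Nat.eq_of_beq_eq_true (h1 i hi))
  exact ⟨c, hc, by rw [h2, map_one, vecMul_one]⟩

variable [Fintype F]

theorem towerH : Nat.card (H F ω) = 90 * 72 ∧ (∀ x, InG (R F ω) (H F ω) (hel x)) ∧
    ∀ y ∈ H F ω, ∃ x < 72 * 90, R F ω (hel x) y := by
  have h1 := inG_genC2 (ex_H1 hω) (ex_H2 hω)
  have h2 : ∀ i, InG (R F ω) (H F ω) (fn2 cA1 cA2 i) :=
    InG.fn2 (InG.of_word (isRep hω) h1 _ wordH1) (InG.of_word (isRep hω) h1 _ wordH2)
  have h3 := (blow hω).tower2 (rho_injective F ω) okH2 okH1 (fun i _ => (h1 i).ex)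
    (fun i _ => h2 i) fixH keyH1 keyH2
  exact h3

theorem cover0 : ∃ t, Cover (R F ω) L0 (fun i => el (R F ω) (L0.gs i)) (H F ω) t :=
  ok0.cover (isRep hω) (fun i _ => ex_gs hω i) (towerH hω).2.1

theorem H_le_gen : H F ω ≤ genC (R F ω) L0.gs L0.ns :=
  genC_le (isRep hω) fun i _ => InG.fn2 (inG_genC3 (ex_H1 hω) (ex_H2 hω) (ex_S hω) 0)
    (inG_genC3 (ex_H1 hω) (ex_H2 hω) (ex_S hω) 1) i

theorem kel_mem (x : ℕ) : InG (R F ω) (genC (R F ω) L0.gs L0.ns) (kel x) := by
  obtain ⟨t, c⟩ := cover0 hω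
  exact c.kel_mem (isRep hω) (H_le_gen hω) (towerH hω).2.1 x

/-- every index gives an element of the group -/
theorem ex_kel (x : ℕ) : ∃ g, R F ω (kel x) g := (kel_mem hω x).ex

theorem gen_eq_top : genC (R F ω) L0.gs L0.ns = ⊤ := by
  refine eq_top_of_codes hω _ (fun i hi => (kel_mem hω _).of_beq (idxA i hi))
    (fun i hi => (kel_mem hω _).of_beq (idxE i hi)) (fun i hi => (kel_mem hω _).of_beq (idxD i hi))
    (fun i hi h0 => ?_) (fun i hi h0 => ?_)
  · obtain ⟨i, rfl⟩ := Nat.exists_eq_succ_of_ne_zero h0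
    exact (kel_mem hω _).of_beq (idxB i (by omega))
  · obtain ⟨i, rfl⟩ := Nat.exists_eq_succ_of_ne_zero h0
    exact (kel_mem hω _).of_beq (idxC i (by omega))

/-- every element has a code in the enumeration `kel` -/
theorem kel_surj (g : threeJ3 F ω) : ∃ x < 6480 * 23256, R F ω (kel x) g := by
  obtain ⟨t, c⟩ := cover0 hω
  exact c.kel_surj (isRep hω) (towerH hω).2.2 g ((gen_eq_top hω).ge (Subgroup.mem_top g))

theorem R_w : R F ω cW (w F ω) := R_el ((kel_mem hω 28442088).of_beq (by decide +kernel)).ex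

theorem rho_w : rho F ω (w F ω) = ω • (1 : Matrix F9 F9 F) :=
  (blow hω).isRep.uniq (R_w hω) (RB_W hω)

theorem orderOf_w : orderOf (w F ω) = 3 := by
  have : Fact (Nat.Prime 3) := ⟨by norm_num⟩
  refine orderOf_eq_prime ((isRep hω).eq_one ((isRep hω).powC (R_w hω) 3) (by decide +kernel)) ?_
  intro h
  have h1 := R_w hω
  rw [h] at h1
  exact absurd ((blow hω).code_inj h1 (isRep hω).one (by decide +kernel) (by decide +kernel))
    (by decide +kernel)

theorem w_mem_center : w F ω ∈ Subgroup.center (threeJ3 F ω) := by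
  rw [Subgroup.mem_center_iff]
  intro g
  apply rho_injective F ω
  rw [map_mul, map_mul, rho_w hω, Matrix.mul_smul, Matrix.smul_mul, Matrix.mul_one, Matrix.one_mul]

/-- a subgroup containing all elements with `g ^ 19 = 1` is everything -/
theorem eq_top_of_19 (N : Subgroup (threeJ3 F ω)) (h : ∀ g, g ^ 19 = 1 → g ∈ N) : N = ⊤ := by
  rw [eq_top_iff, ← gen_eq_top hω]
  refine gen_le.2 fun i hi => ?_
  obtain ⟨h1, h2⟩ := band_eq_true.1 (chk19 i hi)
  obtain ⟨x, hx⟩ := ex_kel hω (nth [124989629, 121746212, 97784240] i)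
  have h3 := h _ ((isRep hω).eq_one ((isRep hω).powC hx 19) h1)
  have h4 := h _ ((isRep hω).eq_one ((isRep hω).powC
    ((isRep hω).mul (R_el (ex_gs hω i)) hx) 19) h2)
  exact (N.mul_mem_cancel_right h3).1 h4

theorem eq_H_or_top (M : Subgroup (threeJ3 F ω)) (hM : H F ω ≤ M) : M = H F ω ∨ M = ⊤ := by
  obtain ⟨t, c⟩ := cover0 hω
  rw [← gen_eq_top hω]
  refine c.maximal (isRep hω) (towerH hω).2.1 (nh := 2) rfl (fun i hi => ?_) (R_el (ex_gs hω 2))
    max0_all M hM ((gen_eq_top hω).ge.trans' le_top)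
  have h1 : L0.gs i = fn2 cH1 cH2 i := by interval_cases i <;> rfl
  show el _ (L0.gs i) ∈ _
  rw [h1]
  exact (inG_genC2 (ex_H1 hω) (ex_H2 hω) i).el_mem (isRep hω)

variable (hF : Fintype.card F = 4)
include hF

theorem key0_eq {a b : ℕ} {g g' : threeJ3 F ω} (ha : R F ω a g) (hb : R F ω b g') {c : F}
    (hc : c ≠ 0) (e : e0 F ᵥ* rho F ω g = c • (e0 F ᵥ* rho F ω g')) : key0 a = key0 b := by
  rw [← vecOf_row0 ha, ← vecOf_row0 hb] at e
  exact (blow hω).lkey_eq (RB_W hω) (cube_eq hω) (cases_of_ne_zero hF hω) (rowC_lt _ _ _)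
    (rowC_lt _ _ _) hc e

theorem card_G : Nat.card (threeJ3 F ω) = 150698880 := by
  obtain ⟨t, c⟩ := cover0 hω
  have h1 := c.card_eq (H_le_gen hω) fun i hi j hj e => by
    obtain ⟨a, ha, h2⟩ := vecMul_eq_of_lstab (H_le_lstab hω e)
    exact L0.key_inj key0_all i hi j hj (key0_eq hω hF (c.rep i hi) (c.rep j hj) ha h2)
  have h2 : gen (fun i => el (R F ω) (L0.gs i)) L0.ns = ⊤ := gen_eq_top hω
  rw [h2, Subgroup.card_top, (towerH hω).1] at h1
  exact h1

theorem index_H : (H F ω).index = 23256 := by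
  have h := (H F ω).card_mul_index
  rw [card_G hω hF, (towerH hω).1] at h
  omega

theorem mem_zpowers_of_scalar {g : threeJ3 F ω} {e : F} (he : e ≠ 0)
    (h : rho F ω g = e • (1 : Matrix F9 F9 F)) : g ∈ Subgroup.zpowers (w F ω) := by
  rcases cases_of_ne_zero hF hω e he with h1 | h1 | h1
  · rw [h1, one_smul, ← map_one (rho F ω)] at h
    rw [rho_injective F ω h]; exact one_mem _
  · rw [h1, ← rho_w hω] at h
    rw [rho_injective F ω h]; exact Subgroup.mem_zpowers _
  · have : rho F ω g = rho F ω (w F ω ^ 2) := by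
      rw [h, h1, map_pow, rho_w hω, smul_pow, one_pow]
    rw [rho_injective F ω this]; exact Subgroup.npow_mem_zpowers _ _

theorem le_zpowers_of_le_H (N : Subgroup (threeJ3 F ω)) [hN : N.Normal] (h : N ≤ H F ω) :
    N ≤ Subgroup.zpowers (w F ω) := by
  obtain ⟨t, c⟩ := cover0 hω
  intro n hn
  have h1 : ∀ j < 23256, n ∈ lstab (rho F ω) (vecOf (phi F) (U F ω) (rowC 18 (L0.T j) 0)) := by
    intro j hj
    rw [vecOf_row0 (c.rep j hj)]
    exact conj_mem_lstab (H_le_lstab hω (h (hN.conj_mem n hn _)))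
  obtain ⟨e, he, h2⟩ := h1 5310 (by norm_num)
  refine mem_zpowers_of_scalar hω hF he (eq_smul_one_of_lines (fun z => ?_) (fun z hz => ?_) h2)
  · obtain ⟨a, ha, h3⟩ := (blow hω).smul_of_lkey_eq (RB_W hω) (cube_eq hω) (chk_lines z).1
    have h4 := h1 _ (chk_lines z).2.1
    rw [h3, vecOf_pow] at h4
    obtain ⟨b, -, h5⟩ := lstab_smul ha h4
    exact ⟨b, h5⟩
  · rw [vecOf_apply] at hz
    exact (chk_lines z).2.2.1 (d4_eq_zero hω hz)

/-- a normal subgroup consists of scalars or is everything -/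
theorem normal_cases (N : Subgroup (threeJ3 F ω)) [N.Normal] :
    N ≤ Subgroup.zpowers (w F ω) ∨ N = ⊤ := by
  by_cases h : N ≤ H F ω
  · exact Or.inl (le_zpowers_of_le_H hω hF N h)
  right
  have h1 := index_dvd_card_of_maximal (eq_H_or_top hω) N h
  rw [index_H hω hF] at h1
  have : Fact (Nat.Prime 19) := ⟨by norm_num⟩
  refine eq_top_of_19 hω N fun g hg => ?_
  by_cases h0 : g = 1
  · rw [h0]; exact one_mem _
  · exact mem_of_orderOf_eq_prime (by norm_num) (by rw [card_G hω hF]; norm_num) N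
      (Dvd.dvd.trans (by norm_num) h1) (orderOf_eq_prime hg h0)

theorem center_eq : Subgroup.center (threeJ3 F ω) = Subgroup.zpowers (w F ω) := by
  refine le_antisymm ?_ (by rw [Subgroup.zpowers_le]; exact w_mem_center hω)
  rcases normal_cases hω hF (Subgroup.center (threeJ3 F ω)) with h | h
  · exact h
  · exfalso
    obtain ⟨a, ha⟩ := ex_H1 hω
    obtain ⟨b, hb⟩ := ex_S hω
    have h1 : a * b = b * a := Subgroup.mem_center_iff.1 (h.ge (Subgroup.mem_top b)) a
    exact absurd ((blow hω).code_inj ((isRep hω).mul ha hb) (h1 ▸ (isRep hω).mul hb ha)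
      ((blow hω).mul_lt _ _) ((blow hω).mul_lt _ _)) (by decide +kernel)

theorem card_center : Nat.card (Subgroup.center (threeJ3 F ω)) = 3 := by
  rw [center_eq hω hF, Nat.card_zpowers, orderOf_w hω]

theorem card_J3 : Nat.card (J3 F ω) = 50232960 := by
  have h := Subgroup.card_eq_card_quotient_mul_card_subgroup (Subgroup.center (threeJ3 F ω))
  rw [card_G hω hF, card_center hω hF] at h
  show Nat.card (threeJ3 F ω ⧸ _) = _
  omega

theorem simple_J3 : IsSimpleGroup (J3 F ω) := by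
  refine isSimpleGroup_quotient_of _ (fun h => ?_) fun N hN _ => ?_
  · have h1 := card_center hω hF
    rw [h, Subgroup.card_top, card_G hω hF] at h1
    omega
  · rw [center_eq hω hF]; exact normal_cases hω hF N

/-- the line of `e₀` has 23256 images -/
theorem ncard_lines : {L : Submodule F (F9 → F) | ∃ g ∈ threeJ3 F ω,
    L = F ∙ ((g : Matrix F9 F9 F) *ᵥ e0 F)}.ncard = 23256 := by
  obtain ⟨t, c⟩ := cover0 hω
  have h1 : {L : Submodule F (F9 → F) | ∃ g ∈ threeJ3 F ω, L = F ∙ ((g : Matrix F9 F9 F) *ᵥ e0 F)} =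
      Set.range (fun j : Fin 23256 => F ∙ (e0 F ᵥ* rho F ω (t j))) := by
    ext L
    constructor
    · rintro ⟨g, hg, rfl⟩
      obtain ⟨j, hj, h2⟩ := c.cov (⟨g, hg⟩ : threeJ3 F ω)⁻¹
        ((gen_eq_top hω).ge (Subgroup.mem_top _))
      obtain ⟨a, ha, h3⟩ := vecMul_eq_of_lstab (H_le_lstab hω h2)
      refine ⟨⟨j, hj⟩, ?_⟩
      have h4 : e0 F ᵥ* rho F ω (⟨g, hg⟩ : threeJ3 F ω)⁻¹ = (g : Matrix F9 F9 F) *ᵥ e0 F := by
        show e0 F ᵥ* contra F9 F g⁻¹ = _
        rw [vecMul_contra, inv_inv]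
      rw [← h4, h3, Submodule.span_singleton_smul_eq (IsUnit.mk0 a ha)]
    · rintro ⟨j, rfl⟩
      exact ⟨((t j)⁻¹ : threeJ3 F ω), (t j)⁻¹.2, congrArg _ (congrArg _ (vecMul_contra _ _))⟩
  rw [h1, ← Set.image_univ, Set.ncard_image_of_injective, Set.ncard_univ, Nat.card_fin]
  intro i j e
  obtain ⟨a, ha⟩ := Submodule.span_singleton_eq_span_singleton.1 e.symm
  exact Fin.ext (L0.key_inj key0_all i i.2 j j.2
    (key0_eq hω hF (c.rep i i.2) (c.rep j j.2) a.ne_zero ha.symm))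

end J3M
end CL
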